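import Mathlib
import Cfsg.Agent.H2.Carter

/-! Frattini subgroup, complements to abelian normal subgroups, Hall factorisations. -/

set_option autoImplicit false
set_option linter.unusedSectionVars false

namespace Cfsg.Agent.H2

open Cfsg Cfsg.Agent.BG Cfsg.Agent.BG.Amb Subgroup
open scoped Pointwise

variable {G : Type*} [Group G] [Finite G] {A B F H K L N P Q R : Subgroup G}

theorem der_le_frattini_of_nilpotent [F.Normal] (hF : Group.IsNilpotent F) :
    ⁅F, F⁆ ≤ frattini G := by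
  rw [Core.le_frattini_iff]
  intro M hM
  have : (F.map (QuotientGroup.mk' M.normalCore)).Normal :=
    Normal.map ‹_› _ (QuotientGroup.mk'_surjective _)
  exact (map_le_cent_map_iff.1 (comm_le_cent ((coreFree_map_normalCore hM).comm_of_nilpotent
    (Core.nilpotent_map hF _)))).trans (normalCore_le M)

theorem exists_compl_of_inf_frattini [A.Normal] (hA : IsMulCommutative A)
    (h : A ⊓ frattini G = ⊥) : ∃ H : Subgroup G, A ⊓ H = ⊥ ∧ A ⊔ H = ⊤ := by
  obtain ⟨H, hH, hmin⟩ := (wellFounded_lt (α := Subgroup G)).has_min {H | A ⊔ H = ⊤} ⟨⊤, sup_top_eq _⟩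
  refine ⟨H, ?_, hH⟩
  have hn : (A ⊓ H).Normal := normal_of_sup_le_norm hH
    (le_norm_of_le_cent (le_cent_of_comm hA le_rfl inf_le_left))
    (le_norm_inf le_norm_of_normal le_normalizer)
  rw [eq_bot_iff, ← h]
  refine le_inf inf_le_left (Core.le_frattini_iff.2 fun M hM => ?_)
  by_contra hle
  have h1 := Core.sup_inf_of_le_left (N := A ⊓ H) (H := M) (K := H) le_norm_of_normal inf_le_right
  rw [coatom_sup_eq_top hM hle, top_inf_eq] at h1
  refine hmin (M ⊓ H) ?_ (lt_of_le_of_ne inf_le_right fun e => hle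
    (inf_le_right.trans (e.ge.trans inf_le_left)))
  change A ⊔ M ⊓ H = ⊤
  rw [eq_top_iff, ← show A ⊔ H = ⊤ from hH]
  refine sup_le le_sup_left ?_
  conv_lhs => rw [h1]
  exact sup_le_sup_right inf_le_left _

/-- The join of the abelian minimal normal subgroups. -/
def abSocle (G : Type*) [Group G] : Subgroup G := sSup {N | MinN N ∧ IsMulCommutative N}

instance abSocle_normal : (abSocle G).Normal :=
  sSup_normal _ fun _ h => h.1.1

theorem abSocle_le_fitting : abSocle G ≤ fittingSubgroup G :=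
  sSup_le fun _ h => Core.le_fitting_of_isMulCommutative h.1.1 h.2

theorem le_abSocle (h : MinN N) (hc : IsMulCommutative N) : N ≤ abSocle G := le_sSup ⟨h, hc⟩

theorem fitting_comm_of_frattini (h : frattini G = ⊥) : IsMulCommutative (fittingSubgroup G) :=
  der_eq_bot_iff.1 (eq_bot_iff.2 (h ▸ der_le_frattini_of_nilpotent Core.fitting_nilpotent))

/-- If `A` is abelian normal with `A ⊓ Φ(G) = 1`, then `A` is a join of minimal normal
subgroups. -/
theorem le_sSup_minN_of_inf_frattini [A.Normal] (hA : IsMulCommutative A) (h : A ⊓ frattini G = ⊥) :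
    A ≤ sSup {N | MinN N ∧ N ≤ A} := by
  set S := sSup {N | MinN N ∧ N ≤ A}
  have hS : S ≤ A := sSup_le fun _ h => h.2
  have : S.Normal := sSup_normal _ fun _ h => h.1.1
  obtain ⟨H, hd, hs⟩ := exists_compl_of_inf_frattini (comm_mono hA hS)
    (eq_bot_iff.2 (h ▸ inf_le_inf_right _ hS))
  have h1 := Core.sup_inf_of_le_left (N := S) (H := H) (K := A) le_norm_of_normal hS
  rw [hs, top_inf_eq] at h1
  have hn : (H ⊓ A).Normal := normal_of_sup_le_norm hs
    (le_norm_of_le_cent (le_cent_of_comm hA hS inf_le_right))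
    (le_norm_inf le_normalizer le_norm_of_normal)
  by_cases hb : H ⊓ A = ⊥
  · rw [hb, sup_bot_eq] at h1
    exact h1.le
  obtain ⟨N, hN, hle⟩ := exists_minN_le _ hb
  refine (hN.2.1 (eq_bot_iff.2 (hd ▸ le_inf (le_sSup ?_) (hle.trans inf_le_left)))).elim
  exact ⟨hN, hle.trans inf_le_right⟩

theorem fitting_eq_abSocle (h : frattini G = ⊥) : fittingSubgroup G = abSocle G :=
  le_antisymm ((le_sSup_minN_of_inf_frattini (fitting_comm_of_frattini h) (by rw [h, inf_bot_eq])).trans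
    (sSup_le fun _ hN => le_abSocle hN.1 (comm_mono (fitting_comm_of_frattini h) hN.2)))
    abSocle_le_fitting

/-- Hall subgroups of the factors lying in a common `π`-subgroup permute. -/
theorem Fac.hall {π : Set ℕ} (h : Fac H K L) (hP : IsPiHallOf π P H) (hQ : IsPiHallOf π Q K)
    (hR : IsPiSubgroup π R) (hPR : P ≤ R) (hQR : Q ≤ R) (hRL : R ≤ L) : Fac P Q R := by
  refine fac_of_card hPR hQR (le_antisymm (Core.card_mul_card_le hPR hQR)
    (Nat.le_of_dvd (Nat.mul_pos Nat.card_pos Nat.card_pos) ?_))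
  refine piNat_dvd_of_dvd_mul (piNat_mul hR (pi_mono hR (inf_le_left.trans hPR)))
    (piNat_mul (hall_index hP) (hall_index hQ)) ?_
  rw [mul_mul_mul_comm, Core.card_mul_relIndex hP.1, Core.card_mul_relIndex hQ.1, h.card]
  exact Nat.mul_dvd_mul (card_dvd_of_le hRL) (card_dvd_of_le (inf_le_inf hP.1 hQ.1))

theorem Fac.exists_conj_le (h : Fac H K L) {g : G} (hg : g ∈ L) (hPR : P ≤ R)
    (hQR : MulAut.conj g • Q ≤ R) : ∃ x ∈ H, ∃ y ∈ K,
      MulAut.conj x • P ≤ MulAut.conj x • R ∧ MulAut.conj y • Q ≤ MulAut.conj x • R := by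
  obtain ⟨a, ha, b, hb, rfl⟩ := h.2.2 g hg
  refine ⟨a⁻¹, H.inv_mem ha, b, hb, conj_mono _ hPR, ?_⟩
  rwa [← Amb.conj_conj, conj_le_iff] at hQR

/-- In a product `L = HK` there are Sylow `p`-subgroups of the factors whose product is a
Sylow `p`-subgroup. -/
theorem Fac.exists_sylow (h : Fac H K L) (p : ℕ) [Fact p.Prime] : ∃ P Q R : Subgroup G,
    IsSylowOf p P H ∧ IsSylowOf p Q K ∧ IsSylowOf p R L ∧ Fac P Q R := by
  obtain ⟨P, hP⟩ := Amb.exists_sylow p H
  obtain ⟨Q, hQ⟩ := Amb.exists_sylow p K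
  obtain ⟨R, hR, hPR⟩ := exists_sylow_ge (sylow_isPGroup hP) (hP.1.trans h.1)
  obtain ⟨g, hg, hQR⟩ := sylow_conj_le hR (sylow_isPGroup hQ) (hQ.1.trans h.2.1)
  obtain ⟨x, hx, y, hy, h1, h2⟩ := h.exists_conj_le hg hPR hQR
  have hR' := hall_conj_of_mem hR (h.1 hx)
  exact ⟨_, _, _, hall_conj_of_mem hP hx, hall_conj_of_mem hQ hy, hR',
    h.hall (hall_conj_of_mem hP hx) (hall_conj_of_mem hQ hy) (hall_pi hR') h1 h2 hR'.1⟩

theorem Fac.exists_hall (h : Fac H K L) (hL : Group.IsSolvable L) (π : Set ℕ) :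
    ∃ P Q R : Subgroup G,
      IsPiHallOf π P H ∧ IsPiHallOf π Q K ∧ IsPiHallOf π R L ∧ Fac P Q R := by
  obtain ⟨P, hP⟩ := Amb.exists_hall π (solvable_mono hL h.1)
  obtain ⟨Q, hQ⟩ := Amb.exists_hall π (solvable_mono hL h.2.1)
  obtain ⟨R, hR, hPR⟩ := exists_hall_ge hL (hall_pi hP) (hP.1.trans h.1)
  obtain ⟨g, hg, hQR⟩ := hall_conj_le hL hR (hall_pi hQ) (hQ.1.trans h.2.1)
  obtain ⟨x, hx, y, hy, h1, h2⟩ := h.exists_conj_le hg hPR hQR
  have hR' := hall_conj_of_mem hR (h.1 hx)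
  exact ⟨_, _, _, hall_conj_of_mem hP hx, hall_conj_of_mem hQ hy, hR',
    h.hall (hall_conj_of_mem hP hx) (hall_conj_of_mem hQ hy) (hall_pi hR') h1 h2 hR'.1⟩

/-- If the factors are nilpotent, their Sylow `p`-subgroups permute. -/
theorem Fac.sylow_of_nilpotent (h : Fac H K L) (hH : Group.IsNilpotent H)
    (hK : Group.IsNilpotent K) (p : ℕ) [Fact p.Prime] :
    IsSylowOf p (piCoreOf {p} H ⊔ piCoreOf {p} K) L ∧
      Fac (piCoreOf {p} H) (piCoreOf {p} K) (piCoreOf {p} H ⊔ piCoreOf {p} K) := by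
  obtain ⟨P, Q, R, hP, hQ, hR, hf⟩ := h.exists_sylow p
  rw [← nil_hall_eq hH hP, ← nil_hall_eq hK hQ, hf.sup_eq]
  exact ⟨hR, hf⟩

end Cfsg.Agent.H2
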