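import Mathlib
import Cfsg.Agent.H2.Fratt
import Cfsg.Agent.Transfer.Frobenius

/-! Minimal non-nilpotent groups (O. Schmidt). -/

set_option autoImplicit false
set_option linter.unusedSectionVars false

namespace Cfsg.Agent.H2

open Cfsg Cfsg.Agent.BG Cfsg.Agent.BG.Amb Subgroup
open scoped Pointwise

variable {G : Type*} [Group G] [Finite G]

theorem hall_of_hasNormalPComplement {p : ℕ} [hp : Fact p.Prime] (h : HasNormalPComplement p G) :
    IsPiHallOf {p}ᶜ (pPrimeCore p G) ⊤ := by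
  obtain ⟨N, hN, h1, h2⟩ := Transfer.hasNormalPComplement_iff_exists_normal.1 h
  have h3 : IsPiHallOf {p}ᶜ N ⊤ := hall_mk le_top ((pi_compl_singleton hp.out).2 h1) (by
    rw [relIndex_top_right, compl_compl, index_eq_card]
    obtain ⟨k, hk⟩ := IsPGroup.iff_card.1 h2
    rw [hk]; exact piNat_singleton_pow hp.out k)
  rw [Core.pPrimeCore_eq_piCore_compl hp.out, ← piCoreOf_top]
  exact hall_piCoreOf_of_normal_hall h3 le_norm_of_normal

theorem nilpotent_of_forall_hasNormalPComplement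
    (h : ∀ p : ℕ, p.Prime → p ∣ Nat.card G → HasNormalPComplement p G) : Group.IsNilpotent G := by
  have h1 : Sys (fun p => pPrimeCore (p : ℕ) G) ⊤ := fun p => by
    have := Fact.mk p.2
    refine hall_of_hasNormalPComplement ?_
    by_cases hd : (p : ℕ) ∣ Nat.card G
    · exact h p p.2 hd
    · exact Transfer.hasNormalPComplement_of_not_dvd hd
  have := h1.nilpotent_of_normal fun p => le_norm_of_normal
  exact Group.nilpotent_of_mulEquiv topEquiv

/-- A non-nilpotent group contains a `q`-subgroup `Q` normalised but not centralised by a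
`p`-element, `p ≠ q`. -/
theorem exists_of_not_nilpotent (h : ¬ Group.IsNilpotent G) :
    ∃ (p q : ℕ) (Q : Subgroup G) (x : G), p.Prime ∧ q.Prime ∧ p ≠ q ∧ IsPGroup q Q ∧
      IsPGroup p (zpowers x) ∧ x ∈ 𝐍(Q) ∧ x ∉ 𝐂(Q) := by
  have := mt nilpotent_of_forall_hasNormalPComplement h
  push Not at this
  obtain ⟨q, hq, -, h1⟩ := this
  have := Fact.mk hq
  obtain ⟨Q, hQ, -, p, hp, hpq, -, x, hx, ⟨k, hk⟩, hx'⟩ :=
    Transfer.exists_of_not_hasNormalPComplement (default : Sylow q G) h1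
  have := Fact.mk hp
  exact ⟨p, q, Q, x, hp, hq, hpq, isPGroup_mono (Sylow.isPGroup' _) hQ,
    IsPGroup.of_card (by rw [Nat.card_zpowers, hk]), hx, hx'⟩

theorem exists_of_not_nilpotent_in {H : Subgroup G} (h : ¬ Group.IsNilpotent H) :
    ∃ (p q : ℕ) (Q : Subgroup G) (x : G), p.Prime ∧ q.Prime ∧ p ≠ q ∧ IsPGroup q Q ∧
      IsPGroup p (zpowers x) ∧ Q ≤ H ∧ x ∈ H ∧ x ∈ 𝐍(Q) ∧ x ∉ 𝐂(Q) := by
  obtain ⟨p, q, Q, x, hp, hq, hpq, hQ, hx, h1, h2⟩ := exists_of_not_nilpotent h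
  refine ⟨p, q, Q.map H.subtype, x, hp, hq, hpq, hQ.map _, ?_, map_subtype_le _, x.2,
    le_normalizer_map _ ⟨x, h1, rfl⟩, fun hc => h2 (mem_cent.2 fun y hy =>
      Subtype.ext (mem_cent.1 hc y ⟨y, hy, rfl⟩))⟩
  have := hx.map H.subtype
  rwa [MonoidHom.map_zpowers] at this

theorem not_nilpotent_sup {p q : ℕ} [Fact p.Prime] [Fact q.Prime] (hpq : p ≠ q) {P Q : Subgroup G}
    (hP : IsPGroup p P) (hQ : IsPGroup q Q) (h : ¬ P ≤ 𝐂(Q)) :
    ¬ Group.IsNilpotent (Q ⊔ P : Subgroup G) := fun hn =>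
  h (nil_le_cent_of_pi hn le_sup_right le_sup_left (isPGroup_iff_pi.1 hP)
    (pi_of_isPGroup hQ hpq.symm))

/-- The structure of a minimal non-nilpotent group. -/
theorem schmidt (h : ¬ Group.IsNilpotent G) (hmin : ∀ H : Subgroup G, H ≠ ⊤ → Group.IsNilpotent H) :
    ∃ (p q : ℕ) (Q : Subgroup G) (x : G), p.Prime ∧ q.Prime ∧ p ≠ q ∧ IsSylowOf q Q ⊤ ∧
      IsSylowOf p (zpowers x) ⊤ ∧ Q.Normal ∧ x ∉ 𝐂(Q) ∧ Q ⊔ zpowers x = ⊤ := by
  obtain ⟨p, q, Q, x, hp, hq, hpq, hQ, hx, h1, h2⟩ := exists_of_not_nilpotent h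
  have := Fact.mk hp
  have := Fact.mk hq
  have ht : Q ⊔ zpowers x = ⊤ := by
    by_contra hne
    exact not_nilpotent_sup hpq hx hQ (fun hle => h2 (hle (mem_zpowers x))) (hmin _ hne)
  have hn := zpowers_le.2 h1
  refine ⟨p, q, Q, x, hp, hq, hpq, ?_, ?_, normal_of_sup_le_norm ht le_normalizer hn, h2, ht⟩
  · exact ht ▸ hall_left_of_sup (isPGroup_iff_pi.1 hQ) (pi_of_isPGroup hx hpq) hn
  · exact ht ▸ hall_right_of_sup (pi_of_isPGroup hQ hpq.symm) (isPGroup_iff_pi.1 hx) hn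

theorem solvable_of_forall_nilpotent (hmin : ∀ H : Subgroup G, H ≠ ⊤ → Group.IsNilpotent H) :
    Group.IsSolvable G := by
  by_cases h : Group.IsNilpotent G
  · infer_instance
  obtain ⟨p, q, Q, x, hp, hq, -, hQ, -, hn, -, ht⟩ := schmidt h hmin
  have := Fact.mk hq
  have := solvable_sup (solvable_of_isPGroup (sylow_isPGroup hQ))
    (solvable_of_comm (A := zpowers x) inferInstance) le_norm_of_normal
  rw [ht] at this
  exact Core.solvable_of_mulEquiv topEquiv this

theorem solvable_of_forall_lt_nilpotent {H : Subgroup G}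
    (hmin : ∀ K : Subgroup G, K < H → Group.IsNilpotent K) : Group.IsSolvable H :=
  solvable_of_forall_nilpotent fun K hK => by
    have : K.map H.subtype < H := lt_of_le_of_ne (map_subtype_le K) fun e => hK (by
      rw [← comap_map_eq_self_of_injective H.subtype_injective K, e]
      exact subgroupOf_self H)
    have := hmin _ this
    exact Group.nilpotent_of_mulEquiv (K.equivMapOfInjective _ H.subtype_injective).symm

end Cfsg.Agent.H2
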