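import Mathlib
import Cfsg.Agent.H2.SubnormalFam
import Cfsg.Agent.H2.Gaschutz
import Cfsg.Agent.H2.Fratt
import Cfsg.Agent.H2.Carter
import Cfsg.Agent.BG.Rank2
import Cfsg.Agent.Comp2.MinNormal

/-! Wielandt's theorem on Sylow subgroups of a join of subnormal subgroups. -/

set_option autoImplicit false
set_option linter.unusedSectionVars false

namespace Cfsg.Agent.H2

open Cfsg Cfsg.Agent.BG Cfsg.Agent.BG.Amb Subgroup
open scoped Pointwise

universe u

variable {G : Type u} [Group G] [Finite G] {A B H K L M N P Q R S V : Subgroup G} {p q : ℕ}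
  {π : Set ℕ}

theorem SN.hall_inf (h : SN M A) (hS : IsPiHallOf π S M) : IsPiHallOf π (A ⊓ S) A :=
  hall_mk inf_le_left (pi_mono (hall_pi hS) inf_le_right) (by
    rw [inf_relIndex_left]
    exact piNat_of_dvd (hall_index hS) (h.relIndex_dvd S))

/-- A normal subgroup `V` and a subgroup `R` of coprime order of a subnormal subgroup `H`. -/
theorem comm_le_of_isSubnormal (hH : H.IsSubnormal) (hR : R ≤ H) (hn : R ≤ 𝐍(V))
    (hc : (Nat.card V).Coprime (Nat.card R)) (hs : Group.IsSolvable R ∨ Group.IsSolvable V) :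
    ⁅V, R⁆ ≤ H := by
  obtain ⟨n, hn'⟩ := Comp2.exists_iterate_commutator_le hH R hR
  have h1 : ∀ m : ℕ, (fun Y => ⁅Y, R⁆)^[m] ⁅V, R⁆ = ⁅V, R⁆ := fun m => by
    induction m with
    | zero => rfl
    | succ m ih => rw [Function.iterate_succ_apply', ih, coprime_comm_comm hn hc hs]
  exact h1 n ▸ hn' _

theorem sylow_sup_top [hp : Fact p.Prime] (G : Type u) [Group G] [Finite G] :
    ∀ H K S : Subgroup G, H.IsSubnormal → K.IsSubnormal → IsSylowOf p S ⊤ → H ⊔ K = ⊤ →
      S ≤ (H ⊓ S) ⊔ (K ⊓ S) := by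
  induction hn : Nat.card G using Nat.strong_induction_on generalizing G with
  | _ n ih =>
  intro H K S hH hK hS hHK
  subst hn
  have hHS := (SN.top_iff.2 hH).hall_inf hS
  have hKS := (SN.top_iff.2 hK).hall_inf hS
  set T := (H ⊓ S) ⊔ (K ⊓ S) with hT
  have hTS : T ≤ S := sup_le inf_le_right inf_le_right
  -- reduction modulo a normal subgroup
  have red : ∀ N : Subgroup G, N.Normal → N ≠ ⊥ → T ⊔ (N ⊓ S) = S := by
    intro N _ hN
    have hlt : Nat.card (G ⧸ N) < Nat.card G := by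
      rw [← index_eq_card, ← N.card_mul_index]
      exact lt_mul_of_one_lt_left (Nat.pos_of_ne_zero index_ne_zero_of_finite)
        (N.one_lt_card_iff_ne_bot.2 hN)
    have hS' := Core.IsPiHallOf.map hS (QuotientGroup.mk' N)
    rw [map_mk'_top] at hS'
    have key : ∀ {X : Subgroup G}, IsSylowOf p (X ⊓ S) X →
        X.map (QuotientGroup.mk' N) ⊓ S.map (QuotientGroup.mk' N) =
          (X ⊓ S).map (QuotientGroup.mk' N) := fun hX =>
      hall_eq_of_le (Core.IsPiHallOf.map hX _)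
        (le_inf (map_mono inf_le_left) (map_mono inf_le_right)) inf_le_left
        (pi_mono (hall_pi hS') inf_le_right)
    have h1 := ih _ hlt (G ⧸ N) rfl _ _ _ (hH.map (QuotientGroup.mk'_surjective N))
      (hK.map (QuotientGroup.mk'_surjective N)) hS' (by rw [← Subgroup.map_sup, hHK, map_mk'_top])
    rw [key hHS, key hKS, ← Subgroup.map_sup, map_mk'_le_iff] at h1
    rw [← sup_inf_assoc_of_le' hTS le_norm_of_normal, inf_eq_right.2 h1]
  suffices ∃ N : Subgroup G, N.Normal ∧ N ≠ ⊥ ∧ N ⊓ S ≤ T ∨ S ≤ T by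
    obtain ⟨N, ⟨h1, h2, h3⟩ | h⟩ := this
    · rw [← red N h1 h2]
      exact sup_le le_rfl h3
    · exact h
  by_cases hE : layer G ≠ ⊥
  · refine ⟨layer G, Or.inl ⟨inferInstance, hE, ?_⟩⟩
    have hnorm : ∀ {X : Subgroup G}, X.IsSubnormal → layer G ≤ 𝐍(layer G ⊓ X) := fun hX =>
      Comp2.layer_le_iff.2 fun C hC => by
        rcases Comp2.component_le_or_commutator_eq_bot hC hX with h | h
        · exact le_norm_of_le (le_inf (Comp2.component_le_layer hC) h)
        · exact le_norm_inf le_norm_of_normal (le_norm_of_le_cent (le_cent_iff_comm_eq_bot.2 h))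
    have h1 : (layer G ⊓ H) ⊔ (layer G ⊓ K) = layer G :=
      le_antisymm (sup_le inf_le_left inf_le_left) (Comp2.layer_le_iff.2 fun C hC => by
        rcases Comp2.component_le_or_commutator_eq_bot hC hH with h | h
        · exact (le_inf (Comp2.component_le_layer hC) h).trans le_sup_left
        rcases Comp2.component_le_or_commutator_eq_bot hC hK with h' | h'
        · exact (le_inf (Comp2.component_le_layer hC) h').trans le_sup_right
        have h2 := le_cent_sup (le_cent_iff_comm_eq_bot.2 h) (le_cent_iff_comm_eq_bot.2 h')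
        rw [hHK] at h2
        exact absurd ((Comp2.component_commutator_self hC).symm.trans
          (le_cent_iff_comm_eq_bot.1 (h2.trans (cent_anti le_top)))) (Comp2.component_ne_bot hC))
    have h2 : Fac (layer G ⊓ H) (layer G ⊓ K) (layer G) := by
      have := fac_of_le_norm (inf_le_left.trans (hnorm hH) : layer G ⊓ K ≤ _)
      rwa [h1] at this
    have hsn : ∀ {X : Subgroup G}, X.IsSubnormal → IsSylowOf p (layer G ⊓ X ⊓ S) (layer G ⊓ X) :=
      fun hX => ((SN.of_normal le_top le_norm_of_normal).inf' (SN.top_iff.2 hX)).hall_inf hS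
    have h3 := h2.hall (hsn hH) (hsn hK) (R := layer G ⊓ S) (pi_mono (hall_pi hS) inf_le_right)
      (inf_le_inf_right _ inf_le_left) (inf_le_inf_right _ inf_le_left) inf_le_left
    rw [← h3.sup_eq]
    exact sup_le_sup (inf_le_inf_right _ inf_le_right) (inf_le_inf_right _ inf_le_right)
  rw [not_not] at hE
  -- the subgroup generated by the `p'`-elements
  let D : Subgroup G := normalClosure {x : G | ¬ p ∣ orderOf x}
  by_cases hD : D = ⊥
  · refine ⟨⊥, Or.inr ?_⟩
    have hG : IsPiSubgroup {p} (⊤ : Subgroup G) := fun r hr hd => by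
      by_contra hrp
      have := Fact.mk hr
      obtain ⟨x, hx⟩ := exists_prime_orderOf_dvd_card' r (card_top (G := G) ▸ hd)
      have h1 : x ∈ D := subset_normalClosure (by
        rw [Set.mem_ofPred_eq, hx]
        exact fun h => hrp ((Nat.prime_dvd_prime_iff_eq hp.out hr).1 h).symm)
      rw [hD, mem_bot] at h1
      exact hr.one_lt.ne' (by rw [← hx, h1, orderOf_one])
    rw [hT, hall_eq_self hS hG, inf_top_eq, inf_top_eq, hHK]
  obtain ⟨V, hV, hVD⟩ := exists_minN_le D hD
  have := hV.normal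
  have hVF : V ≤ fittingSubgroup G := by
    have h1 := Comp2.minimal_normal_le_genFitting hV.ne_bot fun M h1 h2 =>
      or_iff_not_imp_left.2 (hV.eq_of_le h1 h2)
    rwa [Comp2.genFitting_eq_fitting_iff.2 hE] at h1
  have hVs : Group.IsSolvable V :=
    solvable_of_nilpotent (nilpotent_mono Core.fitting_nilpotent hVF)
  obtain ⟨q, hq, hVq⟩ := hV.elementary hVs
  have := Fact.mk hq
  have hVp := Core.IsElementaryAbelian.isPGroup hVq
  refine ⟨V, Or.inl ⟨hV.normal, hV.ne_bot, ?_⟩⟩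
  by_cases hqp : q ≠ p
  · rw [pi_inf_eq_bot (π := {p}ᶜ) (pi_of_isPGroup hVp hqp) (piNat_compl_compl.2 (hall_pi hS))]
    exact bot_le
  obtain rfl := not_not.1 hqp
  have hVS : V ≤ S := normal_le_hall hS le_top le_norm_of_normal (isPGroup_iff_pi.1 hVp)
  have hcomm : ∀ {X : Subgroup G}, X.IsSubnormal → X ⊓ S ≤ T → ∀ r : ℕ, r.Prime → r ≠ q →
      ∀ R, IsSylowOf r R X → ⁅V, R⁆ ≤ V ⊓ T := by
    intro X hX hXT r hr hrq R hR
    have := Fact.mk hr
    have h1 := comm_le_left (H := V) (K := R) le_norm_of_normal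
    exact le_inf h1 ((le_inf (comm_le_of_isSubnormal hX (hall_le hR) le_norm_of_normal
      (IsPGroup.coprime_card_of_ne q r hrq.symm _ _ hVp (sylow_isPGroup hR)) (Or.inr hVs))
      (h1.trans hVS)).trans hXT)
  have gen : ∀ {Y : Subgroup G}, T ≤ Y → (∀ R : Subgroup G, ⁅V, R⁆ ≤ V ⊓ T → R ≤ Y) → ⊤ ≤ Y := by
    intro Y h1 h2
    have h3 : ∀ {X : Subgroup G}, X.IsSubnormal → IsSylowOf q (X ⊓ S) X → X ⊓ S ≤ T → X ≤ Y := by
      intro X hX hXS hXT
      refine le_of_forall_exists_sylow_le fun r hr _ => ?_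
      by_cases hrq : r = q
      · subst hrq
        exact ⟨_, hXS, hXT.trans h1⟩
      · have := Fact.mk hr
        obtain ⟨R, hR⟩ := Amb.exists_sylow r X
        exact ⟨R, hR, h2 R (hcomm hX hXT r hr hrq R hR)⟩
    rw [← hHK]
    exact sup_le (h3 hH hHS le_sup_left) (h3 hK hKS le_sup_right)
  have hW : (V ⊓ T).Normal := normalizer_eq_top_iff.1 (top_le_iff.1 (gen
    (le_norm_inf le_norm_of_normal le_normalizer) fun R hR =>
      le_norm_of_comm_le_left ((commutator_mono inf_le_left le_rfl).trans hR)))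
  by_cases hW0 : V ⊓ T ≠ ⊥
  · exact inf_le_left.trans ((hV.eq_of_le hW inf_le_left hW0).symm.le.trans inf_le_right)
  exfalso
  rw [not_not] at hW0
  obtain ⟨z, hz, hz1⟩ := exists_mem_ne_one (Rank.inf_centralizer_ne_bot_of_nilpotent
    (nilpotent_of_isPGroup (sylow_isPGroup hS)) ⟨hVS, le_norm_of_normal⟩ hV.ne_bot)
  have hzc : ⊤ ≤ 𝐂[z] := gen (hTS.trans (le_cent1_iff.2 hz.2)) fun R hR =>
    (le_cent_iff_comm_eq_bot'.2 (le_bot_iff.1 (hW0 ▸ hR))).trans (cent_le_cent1 hz.1)
  have hVc : ⊤ ≤ 𝐂(V) := le_cent_symm (hV.le_of_inf_ne_bot (K := 𝐂((⊤ : Subgroup G)))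
    (ne_bot_of_mem (mem_inf.2 ⟨hz.1, le_cent1_iff.1 hzc⟩) hz1))
  obtain ⟨U, hU⟩ := gaschutz_exists V S hVq.1 hVS
    (piNat_coprime (isPGroup_iff_pi.1 hVp) (by simpa using hall_index hS)) T
    (disjoint_iff.2 hW0) (by
      have h1 := red V hV.normal hV.ne_bot
      rwa [inf_eq_left.2 hVS, sup_comm] at h1)
  have hUn : U.Normal := normal_of_sup_le_norm hU.sup_eq_top
    (le_norm_of_le_cent (le_cent_symm (le_top.trans hVc))) le_normalizer
  have hDU : D ≤ U := normalClosure_le_normal fun x hx => by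
    obtain ⟨k, hk⟩ := hVp.exists_card_eq
    refine Core.mem_of_pow_mem_of_coprime (U.pow_index_mem x) ?_
    rw [hU.index_eq_card, hk]
    exact ((Nat.Prime.coprime_iff_not_dvd hq).2 hx).pow_left k
  exact hV.ne_bot (le_bot_iff.1 ((le_inf le_rfl (hVD.trans hDU)).trans hU.disjoint.le_bot))

theorem sylow_sup [Fact p.Prime] (hH : SN M H) (hK : SN M K) (hS : IsSylowOf p S M) :
    (H ⊔ K) ⊓ S = (H ⊓ S) ⊔ (K ⊓ S) := by
  refine le_antisymm ?_ (sup_le (inf_le_inf_right _ le_sup_left) (inf_le_inf_right _ le_sup_right))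
  have h1 := (hH.sup hK).hall_inf hS
  have h2 := sylow_sup_top (p := p) (H ⊔ K : Subgroup G) (H.subgroupOf _) (K.subgroupOf _)
    (((H ⊔ K) ⊓ S).subgroupOf _) (hH.mono le_sup_left (hH.sup hK).le).isSubnormal_subgroupOf
    (hK.mono le_sup_right (hH.sup hK).le).isSubnormal_subgroupOf
    (by rw [← subgroupOf_self]; exact (hall_subgroupOf_iff inf_le_left le_rfl).2 h1)
    (by rw [← subgroupOf_sup le_sup_left le_sup_right, subgroupOf_self])
  have h3 := map_mono (f := (H ⊔ K).subtype) h2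
  rw [Subgroup.map_sup, subgroupOf_map_subtype] at h3
  refine le_trans (le_inf le_rfl inf_le_left) (h3.trans (sup_le_sup ?_ ?_)) <;>
  · rintro _ ⟨x, hx, rfl⟩
    exact ⟨hx.1, hx.2.2⟩

end Cfsg.Agent.H2
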